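import Cfsg.Agent.H471.Eight.Pack

/-!
# Co2 has at least eight character degrees: certificates (helper471, for S4899)
-/

set_option autoImplicit false
set_option maxRecDepth 100000
set_option maxHeartbeats 4000000
set_option linter.unusedSectionVars false

namespace Cfsg.Agent.H471.Eight.CertCo2

open Cfsg Cfsg.Agent.Characters.Core Cfsg.Agent.H653.Sys Cfsg.Agent.H653.Sieve Cfsg.Agent.H471.Eight
open Cfsg.Agent.H664.Eight

universe u

def L : List (ℕ × ℕ) := [(23, 1), (11, 1), (7, 1), (5, 3), (3, 6), (2, 18)]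

def Ds : List PD := [⟨23, 1, 11, 2, [(0, 0), (1, 2), (11, -1), (12, 1), (22, -2)], 46, 2, true⟩,
  ⟨11, 1, 10, 1, [(0, 0), (1, 1), (10, -1)], 11, 0, false⟩]

def Cs : List Cond := [condEq 23, condEq 275, condEq 2024, condEq 2277, condEq 44275]

/-- the table of the degrees and column values -/
def B : List (List (ℕ × List ℤ)) := [[],
  [(31625, [0, 0]), (48576, [0, 0]), (67068, [0, 1]), (455400, [0, 0]), (473088, [2, 0]), (1133440, [0, 0])],
  [(63250, [0, 0]), (97152, [0, 0]), (217350, [0, 1]), (910800, [0, 0]), (2266880, [0, 0]), (3129840, [0, -1]), (3564000, [1, 0])],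
  [(10120, [0, 0]), (94875, [0, 0]), (136080, [1, -1]), (145728, [0, 0]), (570240, [2, 0]), (1366200, [0, 0]), (3400320, [0, 0])],
  [(540, [-1, 1]), (126500, [0, 0]), (143451, [0, 0]), (194304, [0, 0]), (1821600, [0, 0]), (4533760, [0, 0])],
  [(4025, [0, -1]), (57960, [0, 1]), (91125, [-2, 1]), (242880, [0, 0]), (736000, [0, 1]), (834624, [0, -1]), (2277000, [0, 0]), (2582118, [0, 0]), (3497472, [0, 0]), (5667200, [0, 0])],
  [(4830, [0, 1]), (20240, [0, 0]), (69552, [0, -1]), (79200, [-1, 0]), (189750, [0, 0]), (291456, [0, 0]), (883200, [0, -1]), (2732400, [0, 0])],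
  [(275, [-2, 0]), (1012, [0, 0]), (9856, [1, 0]), (136620, [0, 0]), (172800, [2, 1]), (221375, [0, 0]), (340032, [0, 0]), (534600, [-1, 0]), (1967328, [0, 0]), (3187800, [0, 0])],
  [(276, [0, 1]), (253000, [0, 0]), (286902, [0, 0]), (388608, [0, 0]), (3643200, [0, 0])],
  [(3024, [-1, -1]), (12672, [-2, 0]), (30360, [0, 0]), (284625, [0, 0]), (437184, [0, 0]), (708400, [0, 0]), (978075, [0, -1]), (4098600, [0, 0])],
  [(10395, [-2, 0]), (46575, [0, 1]), (485760, [0, 0]), (670680, [0, -1]), (1900800, [-1, 0]), (4554000, [0, 0]), (5164236, [0, 0])],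
  [(11, [-1, 0]), (8855, [0, 0]), (34650, [1, 0]), (41216, [0, -1]), (127512, [0, 0]), (737748, [0, 0]), (1195425, [0, 0]), (1619200, [0, 0])],
  [(12, [1, 1]), (40480, [0, 0]), (55890, [0, -1]), (158400, [-2, 0]), (379500, [0, 0]), (430353, [0, 0]), (582912, [0, 0]), (1835008, [-2, -1]), (5464800, [0, 0]), (5677056, [1, 0])],
  [(2760, [0, -1]), (3564, [-2, 0]), (21252, [0, 0]), (39744, [0, 1]), (122958, [0, 0]), (252000, [1, 1]), (1056000, [2, 0]), (2869020, [0, 0]), (3886080, [0, 0])],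
  [(483, [0, -1]), (2024, [0, 0]), (18975, [0, 0]), (19712, [2, 0]), (88320, [0, 1]), (273240, [0, 0]), (442750, [0, 0]), (680064, [0, 0]), (1069200, [-2, 0]), (1271808, [0, -1]), (2561625, [0, 0]), (3604480, [1, 0]), (3934656, [0, 0]), (6375600, [0, 0])],
  [(1288, [0, 1]), (2025, [2, 1]), (50600, [0, 0]), (235520, [0, -1]), (304128, [-2, 0]), (728640, [0, 0]), (1813504, [0, 0]), (3391488, [0, 1])],
  [(12880, [0, -1]), (22528, [-1, 0]), (185472, [0, 1]), (506000, [0, 0]), (573804, [0, 0]), (777216, [0, 0]), (2355200, [0, 1])],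
  [(3300, [-1, 0]), (11340, [2, -1]), (12144, [0, 0]), (113850, [0, 0]), (283360, [0, 0]), (1318912, [0, 1]), (1639440, [0, 0]), (2073600, [1, 1]), (2656500, [0, 0]), (4080384, [0, 0])],
  [(1760, [1, 0]), (18711, [1, 0]), (60720, [0, 0]), (282624, [0, 1]), (569250, [0, 0]), (874368, [0, 0]), (1416800, [0, 0]), (1792000, [2, 1]), (5544000, [-1, 0])],
  [(1024, [1, 1]), (7590, [0, 0]), (23000, [0, -1]), (26082, [0, 1]), (109296, [0, 0]), (177100, [0, 0]), (331200, [0, 1]), (1024650, [0, 0]), (2550240, [0, 0]), (4769280, [0, -1])],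
  [(5313, [0, 0]), (717255, [0, 0]), (971520, [0, 0]), (2173500, [0, -1]), (3801600, [-2, 0])],
  [(3036, [0, 0]), (3840, [-2, 1]), (11880, [1, 0]), (19250, [-2, 0]), (70840, [0, 0]), (409860, [0, 0]), (664125, [0, 0]), (1020096, [0, 0]), (1242000, [0, 1]), (5901984, [0, 0])],
  [(22, [-2, 0]), (759, [0, 0]), (2300, [0, 1]), (17710, [0, 0]), (33120, [0, -1]), (42768, [-1, 0]), (69300, [2, 0]), (102465, [0, 0]), (255024, [0, 0]), (476928, [0, 1]), (1475496, [0, 0]), (2390850, [0, 0]), (3238400, [0, 0])],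
  [(23, [0, 1]), (32384, [0, 0]), (303600, [0, 0]), (2956800, [1, 0]), (4371840, [0, 0])],
  [(22000, [1, 0]), (80960, [0, 0]), (181125, [0, -1]), (759000, [0, 0]), (860706, [0, 0]), (1165824, [0, 0]), (2608200, [0, 1])],
  [(2772, [1, 0]), (12420, [0, 1]), (95634, [0, 0]), (129536, [0, 0]), (178848, [0, -1]), (1214400, [0, 0])],
  [(495, [1, 0]), (42504, [0, 0]), (128800, [0, 1]), (245916, [0, 0]), (398475, [0, 0]), (1559250, [-1, 0]), (1854720, [0, -1]), (5738040, [0, 0])],
  [(6325, [0, 0]), (21735, [0, -1]), (91080, [0, 0]), (226688, [0, 0]), (276000, [0, -1]), (312984, [0, 1]), (853875, [0, 0]), (887040, [-2, 0]), (1311552, [0, 0]), (2125200, [0, 0]), (3974400, [0, 1])],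
  [(4048, [0, 0]), (5589, [0, 1]), (37950, [0, 0]), (148500, [1, 0]), (510300, [-2, -1]), (546480, [0, 0]), (885500, [0, 0]), (1360128, [0, 0]), (4121600, [0, -1]), (5123250, [0, 0])],
  [(230, [0, -1]), (1771, [0, 0]), (3312, [0, 1]), (21000, [2, 1]), (239085, [0, 0]), (323840, [0, 0]), (3036000, [0, 0]), (3153920, [-2, 0]), (3442824, [0, 0]), (4663296, [0, 0])],
  [(231, [2, 0]), (1035, [0, 1]), (14904, [0, -1]), (42240, [1, 0]), (101200, [0, 0]), (449064, [1, 0]), (1457280, [0, 0]), (3627008, [0, 0])],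
  [(14168, [0, 0]), (22275, [-1, 0]), (81972, [0, 0]), (132825, [0, 0]), (258048, [-1, -1]), (1081344, [-2, 0]), (1912680, [0, 0]), (2590720, [0, 0]), (5796000, [0, 1])],
  [(10350, [0, -1]), (45056, [-2, 0]), (79695, [0, 0]), (149040, [0, 1]), (1012000, [0, 0]), (1147608, [0, 0]), (1554432, [0, 0]), (2146176, [0, -1])],
  [(770, [-1, 0]), (26565, [0, 0]), (382536, [0, 0]), (465750, [0, -1]), (518144, [0, 0]), (2027520, [2, 0]), (3586275, [0, 0]), (4857600, [0, 0])],
  [(5796, [0, -1]), (6600, [-2, 0]), (24288, [0, 0]), (73600, [0, -1]), (227700, [0, 0]), (236544, [1, 0]), (566720, [0, 0]), (1059840, [0, 1]), (3278880, [0, 0]), (5313000, [0, 0])],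
  [(5060, [0, 0]), (23552, [0, 1]), (72864, [0, 0]), (285120, [1, 0]), (462000, [-2, 0]), (683100, [0, 0]), (1700160, [0, 0])],
  [(1242, [0, -1]), (3520, [2, 0]), (37422, [2, 0]), (121440, [0, 0]), (1138500, [0, 0]), (1291059, [0, 0]), (1748736, [0, 0]), (2833600, [0, 0])],
  [(506, [0, 0]), (68310, [0, 0]), (170016, [0, 0]), (983664, [0, 0]), (1593900, [0, 0])],
  [(6336, [-1, 0]), (15180, [0, 0]), (218592, [0, 0]), (354200, [0, 0]), (2049300, [0, 0]), (5100480, [0, 0])],
  [(5600, [-1, 1]), (63756, [0, 0]), (249480, [-2, 0]), (368874, [0, 0]), (809600, [0, 0])],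
  [(1782, [-1, 0]), (10626, [0, 0]), (61479, [0, 0]), (528000, [1, 0]), (1434510, [0, 0]), (1943040, [0, 0]), (5613300, [1, 0])],
  [(25300, [0, 0]), (152064, [-1, 0]), (246400, [2, 0]), (364320, [0, 0]), (906752, [0, 0]), (3415500, [0, 0]), (5246208, [0, 0])],
  [(6072, [0, 0]), (23760, [2, 0]), (56925, [0, 0]), (141680, [0, 0]), (819720, [0, 0]), (1328250, [0, 0]), (2040192, [0, 0])],
  [(3795, [0, 0]), (36960, [-2, 0]), (54648, [0, 0]), (88550, [0, 0]), (412160, [0, 1]), (512325, [0, 0]), (1275120, [0, 0]), (2004750, [2, 0]), (5935104, [0, -1])],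
  [(1518, [0, 0]), (9625, [-1, 0]), (35420, [0, 0]), (85536, [-2, 0]), (204930, [0, 0]), (510048, [0, 0]), (1545600, [0, 1]), (2950992, [0, 0]), (4781700, [0, 0]), (6476800, [0, 0])],
  [(45, [-2, 1]), (16192, [0, 0]), (151800, [0, 0]), (2185920, [0, 0]), (3542000, [0, 0]), (5440512, [0, 0])],
  [(15456, [0, 1]), (24300, [1, 1]), (47817, [0, 0]), (64768, [0, 0]), (607200, [0, 0]), (2826240, [0, -1]), (3649536, [-1, 0]), (5913600, [2, 0]), (6455295, [0, 0])],
  [(12375, [2, 0]), (45540, [0, 0]), (113344, [0, 0]), (443520, [-1, 0]), (655776, [0, 0]), (1062600, [0, 0]), (4945920, [0, 1]), (6147900, [0, 0])],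
  [(44000, [2, 0]), (93312, [2, -1]), (161920, [0, 0]), (467775, [2, 0]), (753664, [0, -1]), (1518000, [0, 0]), (1576960, [-1, 0]), (1721412, [0, 0]), (2095875, [0, 1]), (2331648, [0, 0])],
  [(7084, [0, 0]), (8625, [0, 1]), (40986, [0, 0]), (124200, [0, -1]), (160380, [2, 0]), (540672, [-1, 0]), (956340, [0, 0]), (1295360, [0, 0]), (1788480, [0, 1])],
  [(5544, [2, 0]), (40250, [0, 1]), (191268, [0, 0]), (259072, [0, 0]), (327680, [-2, 1]), (579600, [0, -1]), (1013760, [1, 0]), (2428800, [0, 0])],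
  [(252, [-2, -1]), (2530, [0, 0]), (36432, [0, 0]), (46080, [-1, 1]), (231000, [-1, 0]), (341550, [0, 0]), (850080, [0, 0]), (1173690, [0, 1]), (2052864, [-2, 0]), (4918320, [0, 0])],
  [(253, [0, 0]), (990, [2, 0]), (34155, [0, 0]), (85008, [0, 0]), (103500, [0, 1]), (117369, [0, -1]), (491832, [0, 0]), (796950, [0, 0]), (1490400, [0, -1]), (3118500, [-2, 0]), (4610925, [0, 0])],
  [(31878, [0, 0]), (124740, [-1, 0]), (184437, [0, 0]), (404800, [0, 0]), (558900, [0, 1]), (4303530, [0, 0]), (5829120, [0, 0])],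
  [(12650, [0, 0]), (123200, [1, 0]), (182160, [0, 0]), (453376, [0, 0]), (1707750, [0, 0]), (2623104, [0, 0]), (4250400, [0, 0])],
  [(8832, [0, -1]), (18480, [-1, 0]), (27324, [0, 0]), (44275, [0, 0]), (637560, [0, 0]), (1002375, [1, 0]), (3688740, [0, 0]), (5977125, [0, 0])],
  [(8096, [0, 0]), (75900, [0, 0]), (260820, [0, -1]), (297000, [2, 0]), (1092960, [0, 0]), (1771000, [0, 0]), (2720256, [0, 0]), (3312000, [0, -1]), (3755808, [0, 1])],
  [(7360, [0, 1]), (22770, [0, 0]), (56672, [0, 0]), (105984, [0, -1]), (327888, [0, 0]), (531300, [0, 0]), (3073950, [0, 0]), (3193344, [2, 0])],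
  [(3542, [0, 0]), (20493, [0, 0]), (80190, [1, 0]), (154560, [0, -1]), (478170, [0, 0]), (647680, [0, 0]), (2225664, [0, 1]), (6072000, [0, 0])],
  [(528, [-2, 0]), (1265, [0, 0]), (18216, [0, 0]), (170775, [0, 0]), (425040, [0, 0]), (1026432, [-1, 0]), (1288000, [0, -1]), (1663200, [2, 0]), (2459160, [0, 0]), (3984750, [0, 0]), (6120576, [0, 0])],
  [(15939, [0, 0]), (48300, [0, -1]), (84480, [2, 0]), (202400, [0, 0]), (695520, [0, 1]), (898128, [2, 0]), (2151765, [0, 0]), (2914560, [0, 0])],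
  [(13662, [0, 0]), (133056, [2, 0]), (318780, [0, 0]), (1844370, [0, 0]), (4048000, [0, 0]), (4590432, [0, 0]), (5589000, [0, -1]), (6217728, [0, 0])],
  [(1000, [-1, -1]), (11385, [0, 0]), (28336, [0, 0]), (44550, [-2, 0]), (163944, [0, 0]), (265650, [0, 0]), (1536975, [0, 0]), (1596672, [1, 0]), (3825360, [0, 0]), (5181440, [0, 0])],
  [(264, [-1, 0]), (9108, [0, 0]), (27600, [0, 1]), (212520, [0, 0]), (397440, [0, -1]), (831600, [1, 0]), (1229580, [0, 0]), (1992375, [0, 0]), (3060288, [0, 0]), (4145152, [0, 0]), (5723136, [0, 1])],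
  [(6831, [0, 0]), (21504, [-2, -1]), (66528, [1, 0]), (159390, [0, 0]), (483000, [0, 1]), (922185, [0, 0]), (2024000, [0, 0]), (2295216, [0, 0]), (3108864, [0, 0]), (3932160, [-1, 1])],
  [(4554, [0, 0]), (106260, [0, 0]), (494592, [0, -1]), (563200, [-2, 0]), (614790, [0, 0]), (1530144, [0, 0]), (2072576, [0, 0]), (5987520, [-2, 0])],
  [(736, [0, -1]), (1540, [-2, 0]), (2277, [0, 0]), (53130, [0, 0]), (281600, [-1, 0]), (307395, [0, 0]), (765072, [0, 0]), (967680, [2, -1]), (1036288, [0, 0]), (2993760, [-1, 0])]]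

def RS : List (ℕ × List ℕ) := [(23, [0, 1, 11, 12, 22]), (11, [0, 1, 10])]

theorem hB : allDiv 42305421312000 (tabD 42305421312000 RS (Ds.map PD.fam) 67 B) L 1 = true := by decide +kernel

section

variable {S : Type u} [Group S] [Finite S] [Fintype (IrrCharacter S)]

theorem tab [IsSimpleGroup S] (hN : Nat.card S = 42305421312000) (hx : ∀ D ∈ Ds, D.Cent S) (hC : ∀ c ∈ Cs, c.Holds S) :
    Tab S (fun g : S => orderOf g) 42305421312000 L (Ds.map PD.fam) Cs B.flatten :=
  Tab.of_primes hN (by norm_num) (by decide +kernel) (by decide +kernel) rfl (by decide +kernel) hx hB hC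

variable {lab : S → ℕ}

def Q1 : List ℕ := [45, 540, 3840, 5600, 11340, 39744, 40250, 46080, 46575, 57960, 67068, 88320, 91125, 93312, 103500, 128800, 149040, 185472, 217350, 282624, 312984, 327680, 331200, 412160, 476928, 483000, 558900, 695520, 736000, 967680, 1059840, 1173690, 1242000, 1318912, 1545600, 1788480, 2095875, 2225664, 2355200, 2608200, 3391488, 3755808, 3932160, 3974400, 4945920, 5723136, 5796000]

theorem must_1 (C : Tab S lab 42305421312000 L (Ds.map PD.fam) Cs B.flatten) : ∃ d ∈ Q1, d ∈ charDegrees S :=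
  Tab.must C _ 1
    [⟨0, 0, 504410792566154, [592134408664615]⟩, ⟨-535945846, 14792105353846, 0, []⟩]
    [-14779778599385, 0, 0, 0, 0] (by decide +kernel)

def Q2 : List ℕ := [11, 12, 231, 252, 264, 495, 770, 990, 1000, 1024, 1760, 1782, 2025, 2772, 3024, 3300, 3520, 5544, 6336, 9625, 9856, 11880, 12375, 18480, 18711, 19712, 21000, 21504, 22000, 22275, 22528, 23760, 24300, 34650, 37422, 42240, 42768, 44000, 66528, 69300, 79200, 80190, 84480, 123200, 124740, 133056, 136080, 148500, 152064, 160380, 172800, 231000, 236544, 246400, 252000, 258048, 281600, 285120, 297000, 443520, 449064, 467775, 473088, 510300, 528000, 534600, 540672, 570240, 831600, 898128, 1002375, 1013760, 1056000, 1596672, 1663200, 1792000, 2004750, 2027520, 2073600, 2956800, 3193344, 3564000, 3604480, 5613300, 5677056, 5913600]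

theorem must_2 (C : Tab S lab 42305421312000 L (Ds.map PD.fam) Cs B.flatten) : ∃ d ∈ Q2, d ∈ charDegrees S :=
  Tab.must C _ 0
    [⟨-209019, -2299208, -214541367828, [-214430796841]⟩, ⟨0, 0, 0, []⟩]
    [0, -105763553, 0, 0, 0] (by decide +kernel)

end

/-- **Eight degrees**; `hx` : elements of prime order and their centralizers; `hK` : known degrees. -/
theorem eight {S : Type u} [Group S] [Finite S] [IsSimpleGroup S] (hN : Nat.card S = 42305421312000)
    (hx : ∀ pk ∈ ([(23, 1), (11, 1)] : List (ℕ × ℕ)), ∃ x : S, orderOf x = pk.1 ∧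
      Nat.card (Subgroup.centralizer ({x} : Set S)) = pk.1 * pk.2)
    (hK : ∀ d ∈ ([23, 275, 2024, 2277, 44275] : List ℕ), d ∈ charDegrees S) :
    Eight S := by
  classical
  have := finite_irr (G := S)
  let _ := Fintype.ofFinite (IrrCharacter S)
  have T := tab (S := S) hN (by
    intro D hD
    simp only [Ds, List.mem_cons, List.not_mem_nil, or_false] at hD
    rcases hD with rfl | rfl
    · exact hx (23, 1) (by simp)
    · exact hx (11, 1) (by simp)) (by
    intro c hc
    simp only [Cs, List.mem_cons, List.not_mem_nil, or_false] at hc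
    rcases hc with rfl | rfl | rfl | rfl | rfl
    · exact condEq_holds (hK 23 (by simp))
    · exact condEq_holds (hK 275 (by simp))
    · exact condEq_holds (hK 2024 (by simp))
    · exact condEq_holds (hK 2277 (by simp))
    · exact condEq_holds (hK 44275 (by simp)))
  refine eight_of_pack [23, 275, 2024, 2277, 44275] hK [(1, Q1), (1, Q2)] ?_ 1 (by decide +kernel)
  intro q hq
  simp only [List.mem_cons, List.not_mem_nil, or_false] at hq
  rcases hq with rfl | rfl
  · exact must_1 T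
  · exact must_2 T

end Cfsg.Agent.H471.Eight.CertCo2
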