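import Cfsg.Agent.H471.Eight.Pack

/-!
# HS has at least eight character degrees: certificates (helper471, for S4899)
-/

set_option autoImplicit false
set_option maxRecDepth 100000
set_option maxHeartbeats 4000000
set_option linter.unusedSectionVars false

namespace Cfsg.Agent.H471.Eight.CertHS

open Cfsg Cfsg.Agent.Characters.Core Cfsg.Agent.H653.Sys Cfsg.Agent.H653.Sieve Cfsg.Agent.H471.Eight
open Cfsg.Agent.H664.Eight

universe u

def L : List (ℕ × ℕ) := [(11, 1), (7, 1), (5, 3), (3, 2), (2, 9)]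

def Ds : List PD := [⟨11, 1, 5, 2, [(0, 0), (1, 2), (5, -1), (6, 1), (10, -2)], 22, 2, true⟩,
  ⟨7, 1, 6, 1, [(0, 0), (1, 1), (6, -1)], 7, 0, false⟩]

def Cs : List Cond := [condEq 22, condEq 77, condEq 175, condEq 770, condEq 1056]

/-- the table of the degrees and column values -/
def B : List (List (ℕ × List ℤ)) := [[(6, [1, -1]), (21, [-2, 0]), (22, [0, 1]), (28, [1, 0]), (50, [1, 1]), (55, [0, -1]), (56, [2, 0]), (77, [0, 0]), (99, [0, 1]), (105, [1, 0]), (120, [-2, 1]), (126, [-1, 0]), (132, [0, -1]), (154, [0, 0]), (160, [1, -1]), (175, [-2, 0]), (176, [0, 1]), (210, [2, 0]), (225, [-1, 1]), (231, [0, 0]), (252, [-2, 0]), (280, [-1, 0]), (308, [0, 0]), (330, [0, 1]), (336, [1, 0]), (384, [-2, -1]), (385, [0, 0]), (440, [0, -1]), (462, [0, 0]), (512, [1, 1]), (560, [-2, 0]), (616, [0, 0]), (672, [2, 0]), (693, [0, 0]), (720, [-1, -1]), (770, [0, 0]), (792, [0, 1]), (825, [0, -1]), (875, [1, 0]), (896, [-1, 0]), (924, [0, 0]), (1000, [-2, -1]), (1050, [-1,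 0]), (1056, [0, -1]), (1100, [0, 1]), (1155, [0, 0]), (1232, [0, 0]), (1260, [1, 0]), (1386, [0, 0]), (1408, [0, 1]), (1540, [0, 0]), (1750, [2, 0]), (1792, [-2, 0]), (1848, [0, 0]), (1925, [0, 0]), (1980, [0, -1]), (2100, [-2, 0]), (2304, [-1, 1]), (2310, [0, 0]), (2464, [0, 0]), (2520, [2, 0]), (2640, [0, 1]), (2750, [0, -1]), (2772, [0, 0]), (2800, [1, 0]), (3080, [0, 0]), (3200, [-2, 1]), (3360, [-1, 0]), (3465, [0, 0]), (3520, [0, -1]), (3696, [0, 0]), (3850, [0, 0]), (4032, [1, 0]), (4500, [2, -1]), (4620, [0, 0]), (4928, [0, 0]), (4950, [0, 1]), (5544, [0, 0]), (5600, [2, 0]), (5775, [0, 0]), (6000, [-1, 1]), (6160, [0, 0]), (6336, [0, 1]), (6600, [0, -1])]]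

def RS : List (ℕ × List ℕ) := [(11, [0, 1, 5, 6, 10]), (7, [0, 1, 6])]

theorem hB : allDiv 44352000 (tabD 44352000 RS (Ds.map PD.fam) 1 B) L 1 = true := by decide +kernel

section

variable {S : Type u} [Group S] [Finite S] [Fintype (IrrCharacter S)]

theorem tab [IsSimpleGroup S] (hN : Nat.card S = 44352000) (hx : ∀ D ∈ Ds, D.Cent S) (hC : ∀ c ∈ Cs, c.Holds S) :
    Tab S (fun g : S => orderOf g) 44352000 L (Ds.map PD.fam) Cs B.flatten :=
  Tab.of_primes hN (by norm_num) (by decide +kernel) (by decide +kernel) rfl (by decide +kernel) hx hB hC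

variable {lab : S → ℕ}

def Q1 : List ℕ := [56, 210, 336, 512, 672, 875, 1260, 1750, 2520, 2800, 4032, 4500, 5600]

theorem must_1 (C : Tab S lab 44352000 L (Ds.map PD.fam) Cs B.flatten) : ∃ d ∈ Q1, d ∈ charDegrees S :=
  Tab.must C _ 0
    [⟨-288, -3024, 33264, [-15840]⟩, ⟨0, 0, 0, []⟩]
    [0, 0, -88704, 0, 0] (by decide +kernel)

def Q2 : List ℕ := [120, 330, 792, 1100, 1408, 2304, 2640, 3200, 4950, 6000, 6336]

theorem must_2 (C : Tab S lab 44352000 L (Ds.map PD.fam) Cs B.flatten) : ∃ d ∈ Q2, d ∈ charDegrees S :=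
  Tab.must C _ 0
    [⟨0, 0, 36960, [27552]⟩, ⟨-192, 33792, 0, []⟩]
    [-29568, 0, 0, 0, -236544] (by decide +kernel)

end

/-- **Eight degrees**; `hx` : elements of prime order and their centralizers; `hK` : known degrees. -/
theorem eight {S : Type u} [Group S] [Finite S] [IsSimpleGroup S] (hN : Nat.card S = 44352000)
    (hx : ∀ pk ∈ ([(11, 1), (7, 1)] : List (ℕ × ℕ)), ∃ x : S, orderOf x = pk.1 ∧
      Nat.card (Subgroup.centralizer ({x} : Set S)) = pk.1 * pk.2)
    (hK : ∀ d ∈ ([22, 77, 175, 770, 1056] : List ℕ), d ∈ charDegrees S) :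
    Eight S := by
  classical
  have := finite_irr (G := S)
  let _ := Fintype.ofFinite (IrrCharacter S)
  have T := tab (S := S) hN (by
    intro D hD
    simp only [Ds, List.mem_cons, List.not_mem_nil, or_false] at hD
    rcases hD with rfl | rfl
    · exact hx (11, 1) (by simp)
    · exact hx (7, 1) (by simp)) (by
    intro c hc
    simp only [Cs, List.mem_cons, List.not_mem_nil, or_false] at hc
    rcases hc with rfl | rfl | rfl | rfl | rfl
    · exact condEq_holds (hK 22 (by simp))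
    · exact condEq_holds (hK 77 (by simp))
    · exact condEq_holds (hK 175 (by simp))
    · exact condEq_holds (hK 770 (by simp))
    · exact condEq_holds (hK 1056 (by simp)))
  refine eight_of_pack [22, 77, 175, 770, 1056] hK [(1, Q1), (1, Q2)] ?_ 1 (by decide +kernel)
  intro q hq
  simp only [List.mem_cons, List.not_mem_nil, or_false] at hq
  rcases hq with rfl | rfl
  · exact must_1 T
  · exact must_2 T

end Cfsg.Agent.H471.Eight.CertHS
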