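import Cfsg.Agent.H471.Eight.Pack

/-!
# J4 has at least eight character degrees: certificates (helper471, for S4899)
-/

set_option autoImplicit false
set_option maxRecDepth 100000
set_option maxHeartbeats 4000000
set_option linter.unusedSectionVars false

namespace Cfsg.Agent.H471.Eight.CertJ4

open Cfsg Cfsg.Agent.Characters.Core Cfsg.Agent.H653.Sys Cfsg.Agent.H653.Sieve Cfsg.Agent.H471.Eight
open Cfsg.Agent.H664.Eight

universe u

def L : List (ℕ × ℕ) := [(43, 1), (37, 1), (31, 1), (29, 1), (23, 1), (11, 3), (7, 1), (5, 1), (3, 3), (2, 21)]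

def Ds : List PD := [⟨43, 1, 14, 3, [(0, 0), (1, 3), (14, -1), (29, 1), (42, -3)], 129, 3, true⟩,
  ⟨37, 1, 12, 3, [(0, 0), (1, 3), (12, -1), (25, 1), (36, -3)], 111, 3, true⟩,
  ⟨31, 1, 10, 3, [(0, 0), (1, 3), (10, -1), (21, 1), (30, -3)], 93, 3, true⟩,
  ⟨29, 1, 28, 1, [(0, 0), (1, 1), (28, -1)], 29, 0, false⟩,
  ⟨23, 1, 22, 1, [(0, 0), (1, 1), (22, -1)], 23, 0, false⟩]

def Cs : List Cond := [condEq 889111, condEq 1776888, condEq 4290927, condEq 95288172, condEq 35411145]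

/-- the table of the degrees and column values -/
def B : List (List (ℕ × List ℤ)) := [[],
  [(98691321, [0, 0, 0, 0, 0]), (326457032, [0, 3, 0, 1, 0]), (393877506, [0, 0, 0, -1, -1]), (401132466, [0, 0, -3, 0, 0]), (723736354, [0, 0, 0, 0, 0]), (883631595, [-3, 0, 0, 0, 0]), (1973826420, [0, 0, 0, 0, 0]), (2201686960, [-1, -3, 0, 0, 0]), (2727495848, [0, 0, 3, -1, 0]), (2962269728, [1, 0, 0, 0, 0]), (7599231717, [0, 0, 0, 0, 0])],
  [(887777, [-3, -3, -3, 0, 0]), (3403149, [0, 0, 0, -1, 0]), (10658109, [0, 0, -3, 0, 1]), (197382642, [0, 0, 0, 0, 0]), (686548320, [0, 0, 0, 0, -1]), (720334538, [0, 3, 0, 0, -1]), (1016407168, [0, 0, 0, 1, 0]), (1447472708, [0, 0, 0, 0, 0]), (2072517741, [0, 0, 0, 0, 0]), (2173331456, [0, 0, -1, 0, 0]), (2528143992, [-1, 0, 0, 1, 0]), (2731348992, [0, 3, 0, 0, 0]), (3053952880, [0, 3, 3, 0, 0]), (3947652840, [0, 0, 0, 0, 0]), (5163956688, [0, -3, 0, 0, 0]), (7208757360,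 [0, 0, 0, 0, 1]), (8482863312, [-3, 0, 0, 0, 0])],
  [(1333, [0, 3, 0, -1, -1]), (299367, [3, 0, 0, 0, -1]), (887778, [0, 0, 0, 1, 1]), (1280755, [0, 0, 1, -1, 0]), (34427205, [1, 0, 0, 0, 0]), (102094470, [0, 0, 0, -1, 0]), (160194608, [0, 0, 0, 0, -1]), (170306560, [1, 0, 0, 0, 1]), (229046466, [0, 3, 1, 0, 0]), (296073963, [0, 0, 0, 0, 0]), (490053456, [0, 0, 0, 1, 0]), (921118996, [0, 0, 0, 0, 0]), (2171209062, [0, 0, 0, 0, 0]), (5255639840, [-1, 0, 3, 0, 0]), (5490413720, [0, 0, 0, 1, 0]), (5660770304, [3, 0, 1, 0, 0]), (5921479260, [0, 0, 0, 0, 0]), (6057358615, [0, 0, 0, 0, 1]), (8421659392, [0, 0, 0, 0, 0]), (8886809184, [3, 0, 0, 0, 0])],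
  [(394765284, [0, 0, 0, 0, 0]), (1120624032, [0, 0, -1, 0, 0]), (1182518964, [3, 0, 3, 0, 0]), (1705812480, [1, 0, 3, 0, 0]), (2894945416, [0, 0, 0, 0, 0]), (3054840657, [-3, 0, 0, 0, 0]), (4145035482, [0, 0, 0, 0, 0]), (4406682240, [-1, 0, 0, 0, 0]), (7895305680, [0, 0, 0, 0, 0]), (8217909568, [0, 0, 3, 0, 0])],
  [(3011505, [0, 3, -1, 0, 0]), (4290927, [0, 0, 0, 0, 1]), (62391065, [0, 0, 0, 1, 0]), (88021989, [0, 1, 0, 0, 0]), (191015460, [0, 0, 3, 0, 0]), (273846188, [0, -1, 0, 0, 0]), (299477112, [0, 0, 0, -1, 0]), (493456605, [0, 0, 0, 0, 0]), (594270320, [0, 0, -1, 0, 0]), (629335960, [0, 0, 0, 0, 1]), (856854880, [1, 0, 0, 0, 0]), (2368591704, [0, 0, 0, 0, 0]), (3584895552, [0, -3, 0, 0, 0]), (3618681770, [0, 0, 0, 0, 0]), (5393003154, [0, 0, 1, 0, 0]), (6608027580, [0, 0, 0, 0, -1]), (6777693153, [0, 3, 0, 0, 0]), (7368951968, [0, 0, 0, 0, 0]), (7834101760, [3, 0, 0, 0, 0])],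
  [(642320, [1, 0, 0, -1, -1]), (889111, [0, 3, 0, 0, 0]), (1187145, [3, 0, 0, 1, 0]), (7897280, [1, 0, -3, 0, 0]), (67916608, [0, 0, -1, 0, 0]), (102982248, [0, 0, 0, 0, 1]), (186713310, [0, 1, 0, 0, 0]), (330501168, [1, 0, 0, 0, 0]), (592147926, [0, 0, 0, 0, 0]), (625934144, [0, 3, 0, 0, 0]), (786127419, [0, 0, 0, 1, 0]), (1081313604, [0, 0, 0, 0, -1]), (1183406741, [0, -3, 0, 0, 0]), (1842237992, [0, 0, 0, 0, 0]), (2001151845, [0, 0, -1, 1, -1]), (2568096740, [0, 0, -1, 0, 0]), (4342418124, [0, 0, 0, 0, 0]), (6217553223, [0, 0, 0, 0, 0]), (6519994368, [0, 0, -3, 0, 0])],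
  [(32007996, [0, -3, 0, 0, 0]), (65794214, [0, 0, 0, 0, 0]), (99580432, [0, 3, 0, 0, 0]), (690839247, [0, 0, 0, 0, 0]), (910449664, [0, 1, 0, 0, 0]), (1315884280, [0, 0, 0, 0, 0]), (1375599456, [3, 1, 0, 0, 0]), (1509863773, [0, 0, 0, 1, 0]), (1721318896, [0, -1, 0, 0, 0]), (1746949820, [0, 0, 0, -1, 0]), (2076808668, [0, 0, 0, 0, 1]), (2827621104, [-1, 0, 0, 0, 0]), (3781980160, [-3, 0, 0, -1, 0]), (4441109445, [0, 0, 0, 0, 0]), (5066154478, [0, 0, 0, 0, 0]), (6316244544, [0, 0, 0, 0, 0]), (6721679160, [0, -1, 0, 0, 0]), (8055500288, [0, 0, 0, 0, -1]), (8385359136, [0, 0, 0, 1, 0])],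
  [(1776888, [-3, 0, -3, 0, 0]), (4292260, [0, 3, 0, -1, 0]), (4590294, [3, 0, 0, 0, 0]), (28606180, [0, 0, 0, 0, -1]), (63671820, [0, 0, 1, 0, 0]), (164485535, [0, 0, 0, 0, 0]), (300364890, [0, 0, 0, 0, 1]), (384095952, [0, 1, 0, 0, 0]), (466926680, [0, 0, -3, 0, 0]), (562011648, [-1, 0, 0, 0, 1]), (706699840, [0, 1, 3, 0, 0]), (789530568, [0, 0, 0, 0, 0]), (1194965184, [0, -1, 0, 0, 0]), (1903741279, [0, 0, 0, 0, -1]), (2259231051, [0, 1, 0, 0, 0]), (2470686174, [0, 0, 0, -1, 0]), (2858645160, [0, 0, 0, 1, 0]), (4237359621, [0, 0, 3, 0, 0]), (5789890832, [0, 0, 0, 0, 0]), (6112494720, [0, 0, 3, 0, 0]), (8290070964, [0, 0, 0, 0, 0]), (9251343360, [0, 3, -3, 0, 0])],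
  [(288144, [3, 1, -3, 0, 0]), (592296, [-1, 0, -1, 0, 0]), (1530098, [1, 0, 0, 0, 0]), (35411145, [0, -3, 0, -1, 0]), (103281615, [3, 0, 0, 0, 0]), (205076718, [0, 0, 0, -1, 1]), (263176856, [0, 0, 0, 0, 0]), (463524864, [0, 3, -3, 0, -1]), (888221889, [0, 0, 0, 0, 0]), (991215360, [0, -1, 3, 0, 0]), (1412453207, [0, 0, 1, 0, 0]), (2037498240, [0, 0, 1, 0, 0]), (2763356988, [0, 0, 0, 0, 0]), (3083781120, [0, 1, -1, 0, 0]), (3194422528, [0, 0, 0, -1, 0]), (3524281376, [0, 0, 0, 0, 1]), (5263537120, [0, 0, 0, 0, 0]), (6513627186, [0, 0, 0, 0, 0])],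
  [(6378405, [0, -1, 0, 0, -1]), (31616352, [0, 0, -1, 1, 0]), (32307363, [3, -3, 0, 0, -1]), (59427032, [0, 0, 3, 0, 0]), (142257760, [0, -1, 0, 0, 0]), (201972936, [3, 0, 0, 0, 0]), (259775040, [0, 3, 0, 0, -1]), (361868177, [0, 0, 0, 0, 0]), (986913210, [0, 0, 0, 0, 0]), (2855381760, [-3, 0, 3, 0, 1]), (3520879560, [0, 3, 0, 0, 0]), (4011324660, [0, 0, 1, 0, 0]), (4248017730, [0, 0, 0, 0, 1]), (4737183408, [0, 0, 0, 0, 0]), (4998830166, [-1, 0, 0, 0, 0]), (7237363540, [0, 0, 0, 0, 0]), (8225806848, [1, 0, 0, 0, 0])],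
  [(2076255, [0, 0, -3, 0, -1]), (165126522, [1, -3, 0, 0, 0]), (426773280, [0, -3, 0, 0, 0]), (460559498, [0, 0, 0, 0, 0]), (544290560, [0, 1, 0, 0, -1]), (925709290, [3, 0, 0, 0, 0]), (1085604531, [0, 0, 0, 0, 0]), (2471573952, [0, 0, 0, 0, 1]), (2960739630, [0, 0, 0, 0, 0]), (4210829696, [0, 0, 0, 0, 0]), (5627481552, [0, 0, -3, 0, -1]), (7961099894, [0, 0, 0, 0, 0]), (9211189960, [0, 0, 0, 0, 0])],
  [(17036514, [0, -1, -3, 0, 0]), (35019501, [0, 0, -1, 0, 0]), (53002488, [0, 1, 1, 0, 0]), (195852544, [-1, 0, 0, 0, 0]), (256809674, [0, 0, 3, 0, 0]), (458437104, [0, 0, 1, 0, 0]), (491583554, [1, 0, 0, 1, 0]), (693850752, [0, 3, -1, 0, 0]), (1184295852, [0, 0, 0, 0, 0]), (1445942610, [-1, 0, 0, 0, 0]), (1809340885, [0, 0, 0, 0, 0]), (2267824128, [0, 0, 3, 0, 1]), (3361872096, [0, 0, -3, 0, 0]), (3684475984, [0, 0, 0, 0, 0]), (4958581936, [-3, 0, 0, 0, -1]), (8684836248, [0, 0, 0, 0, 0])],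
  [(11223, [0, -1, 3, 0, -1]), (295482, [1, 0, 1, 1, 1]), (32897107, [0, 0, 0, 0, 0]), (133710822, [0, 0, -1, 0, 0]), (192792348, [-3, 0, 0, 0, 0]), (294543865, [-1, 0, 0, 0, 0]), (657942140, [0, 0, 0, 0, 0]), (885461060, [1, 0, 0, 0, -1]), (953716736, [-3, 0, 0, 0, 1]), (980546028, [0, 0, 3, 0, 0]), (1089007680, [0, 0, 0, -1, 0]), (1096262640, [0, 0, -3, 0, 1]), (2533077239, [0, 0, 0, 0, 0]), (2692972480, [-3, 0, 0, 0, 0]), (2828263424, [0, 0, 0, -1, -1]), (3158122272, [0, 0, 0, 0, 0]), (5227236864, [0, 0, 0, 1, 0]), (6908392470, [0, 0, 0, 0, 0])],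
  [(97504176, [-3, 0, 0, -1, 0]), (97802210, [0, -3, 0, 0, 0]), (105957504, [0, -1, 0, 1, 0]), (131588428, [0, 0, 0, 0, 0]), (394172988, [1, 0, 1, 0, 0]), (714597120, [1, 1, 0, 0, 0]), (885257856, [0, 0, 3, -1, 0]), (1018280219, [-1, 0, 0, 0, 0]), (1381678494, [0, 0, 0, 0, 0]), (2631768560, [0, 0, 0, 0, 0]), (3087148020, [0, -3, 0, 0, -1]), (3256813593, [0, 0, 0, 0, 0]), (8882218890, [0, 0, 0, 0, 0])],
  [(10669332, [0, -1, 0, 0, 0]), (36300256, [0, 0, 0, -1, 0]), (94400394, [0, 0, 0, 0, -1]), (230279749, [0, 0, 0, 0, 0]), (264065967, [0, 3, 0, 0, 0]), (366159104, [0, 0, 0, 0, 1]), (501450048, [3, 0, 0, -1, 0]), (821538564, [0, -3, 0, 0, 0]), (991204137, [0, 0, 0, 0, 1]), (1480369815, [0, 0, 0, 0, 0]), (1782810960, [0, 0, -3, 0, 0]), (2105414848, [0, 0, 0, 0, 0]), (2206228563, [0, 0, -1, 0, 0]), (2570564640, [3, 0, 0, 0, 0]), (3844670592, [0, 0, 0, 0, -1]), (3980549947, [0, 0, 0, 0, 0]), (4605594980,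 [0, 0, 0, 0, 0]), (7105775112, [0, 0, 0, 0, 0]), (7511209728, [0, -1, 0, 0, 0]), (8617511936, [-1, 0, 0, 0, 0])],
  [(391644, [0, -3, 1, -1, 0]), (6367182, [0, 0, -3, 0, 0]), (67324312, [1, 0, 0, 0, 0]), (159552288, [-1, 0, 0, 1, 0]), (162409280, [0, 0, 3, 0, 1]), (193091715, [0, 0, 0, 0, -1]), (328971070, [0, 0, 0, 0, 0]), (1173626520, [0, 1, 0, 0, 0]), (1579061136, [0, 0, 0, 0, 0]), (1901665024, [0, 0, 3, 0, 0]), (2922316980, [0, 0, 1, 1, 0]), (3151755090, [0, 0, 3, 0, 0]), (3454196235, [0, 0, 0, 0, 0]), (4544391060, [3, 0, 0, 0, 0]), (6614487040, [0, 0, 1, 0, 1])],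
  [(64264116, [-1, 0, 0, 0, 0]), (97410566, [0, 0, -1, 1, 0]), (105058503, [0, 0, -3, 0, 0]), (159007464, [0, 3, 3, 0, 0]), (164831040, [0, -3, -1, -1, -1]), (326848676, [0, 0, 1, 0, 0]), (587557632, [-3, 0, 0, 0, 0]), (1052707424, [0, 0, 0, 0, 0]), (1981808640, [3, 1, -3, -1, 1]), (2302797490, [0, 0, 0, 0, 0]), (3316194486, [0, 0, 1, 0, -1]), (3552887556, [0, 0, 0, 0, 0]), (4278746304, [0, 0, -1, 0, 0]), (4861077760, [0, 0, 0, 1, -1]), (5428022655, [0, 0, 0, 0, 0]), (8984313360, [0, 0, 0, -1, 0])],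
  [(2122394, [0, 0, -1, 0, 0]), (3401816, [0, -3, 0, 0, 1]), (61203920, [-3, 0, 0, 0, 0]), (95288172, [0, 0, 0, 1, 0]), (203749824, [0, 0, -3, 0, 0]), (491288072, [0, 0, -1, 0, -1]), (526353712, [0, 0, 0, 0, 0]), (560139930, [0, 3, 0, 0, 0]), (668899616, [3, 0, -3, 0, 0]), (1050585030, [0, 0, 1, 0, 0]), (1151398745, [0, 0, 0, 0, 0]), (1514797020, [1, 0, 0, 0, 0]), (1776443778, [0, 0, 0, 0, 0]), (2265609456, [0, 0, 0, 0, -1]), (5121279360, [0, 1, 0, 0, 0]), (5526713976, [0, 0, 0, 0, 0]), (7704290220, [0, 0, -3, 0, 0]), (8787818496, [0, 0, 0, 0, 1])]]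

def RS : List (ℕ × List ℕ) := [(43, [0, 1, 14, 29, 42]), (37, [0, 1, 12, 25, 36]), (31, [0, 1, 10, 21, 30]), (29, [0, 1, 28]), (23, [0, 1, 22])]

theorem hB : allDiv 86775571046077562880 (tabD 86775571046077562880 RS (Ds.map PD.fam) 19 B) L 1 = true := by decide +kernel

section

variable {S : Type u} [Group S] [Finite S] [Fintype (IrrCharacter S)]

theorem tab [IsSimpleGroup S] (hN : Nat.card S = 86775571046077562880) (hx : ∀ D ∈ Ds, D.Cent S) (hC : ∀ c ∈ Cs, c.Holds S) :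
    Tab S (fun g : S => orderOf g) 86775571046077562880 L (Ds.map PD.fam) Cs B.flatten :=
  Tab.of_primes hN (by norm_num) (by decide +kernel) (by decide +kernel) rfl (by decide +kernel) hx hB hC

variable {lab : S → ℕ}

def Q1 : List ℕ := [642320, 159552288, 501450048, 1981808640, 2528143992]

theorem must_1 (C : Tab S lab 86775571046077562880 L (Ds.map PD.fam) Cs B.flatten) : ∃ d ∈ Q1, d ∈ charDegrees S :=
  Tab.must C _ 0
    [⟨0, 0, 0, [0, 0, 289251903486925, 0]⟩, ⟨0, 0, 0, [0, 0, 0]⟩, ⟨0, 0, 0, [0, 0]⟩, ⟨0, 0, 0, [0]⟩, ⟨0, 0, 0, []⟩]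
    [0, 0, 0, 0, 0] (by decide +kernel)

def Q2 : List ℕ := [4292260, 105957504, 205076718, 885257856, 2001151845, 2727495848]

theorem must_2 (C : Tab S lab 86775571046077562880 L (Ds.map PD.fam) Cs B.flatten) : ∃ d ∈ Q2, d ∈ charDegrees S :=
  Tab.must C _ 7
    [⟨202856219, 1430155091194942, -1755779606329311, [257484697816881110, -9841391232214989, -151391409389115987, -215553111050952651]⟩, ⟨-788771411, 19012404848210894, 0, [322398266590579331, 88165494372298177260, -1005351055611682303]⟩, ⟨-543225172, 8207354156718290, 114836612475481049260, [116954769788593944120, 726542007950858694]⟩, ⟨9035126795, 2122206807177907658, 0, [255127928265300559353]⟩, ⟨-10545153492, 4059184375366840922, 0, []⟩]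
    [-169012871670134502, 0, -4014055702165694422, -3042231690062421036, -266561810957844022565] (by decide +kernel)

end

/-- **Eight degrees**; `hx` : elements of prime order and their centralizers; `hK` : known degrees. -/
theorem eight {S : Type u} [Group S] [Finite S] [IsSimpleGroup S] (hN : Nat.card S = 86775571046077562880)
    (hx : ∀ pk ∈ ([(43, 1), (37, 1), (31, 1), (29, 1), (23, 1)] : List (ℕ × ℕ)), ∃ x : S, orderOf x = pk.1 ∧
      Nat.card (Subgroup.centralizer ({x} : Set S)) = pk.1 * pk.2)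
    (hK : ∀ d ∈ ([889111, 1776888, 4290927, 95288172, 35411145] : List ℕ), d ∈ charDegrees S) :
    Eight S := by
  classical
  have := finite_irr (G := S)
  let _ := Fintype.ofFinite (IrrCharacter S)
  have T := tab (S := S) hN (by
    intro D hD
    simp only [Ds, List.mem_cons, List.not_mem_nil, or_false] at hD
    rcases hD with rfl | rfl | rfl | rfl | rfl
    · exact hx (43, 1) (by simp)
    · exact hx (37, 1) (by simp)
    · exact hx (31, 1) (by simp)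
    · exact hx (29, 1) (by simp)
    · exact hx (23, 1) (by simp)) (by
    intro c hc
    simp only [Cs, List.mem_cons, List.not_mem_nil, or_false] at hc
    rcases hc with rfl | rfl | rfl | rfl | rfl
    · exact condEq_holds (hK 889111 (by simp))
    · exact condEq_holds (hK 1776888 (by simp))
    · exact condEq_holds (hK 4290927 (by simp))
    · exact condEq_holds (hK 95288172 (by simp))
    · exact condEq_holds (hK 35411145 (by simp)))
  refine eight_of_pack [889111, 1776888, 4290927, 95288172, 35411145] hK [(1, Q1), (1, Q2)] ?_ 1 (by decide +kernel)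
  intro q hq
  simp only [List.mem_cons, List.not_mem_nil, or_false] at hq
  rcases hq with rfl | rfl
  · exact must_1 T
  · exact must_2 T

end Cfsg.Agent.H471.Eight.CertJ4
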