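import Cfsg.Agent.H653.Sieve.Tab
import Cfsg.Agent.H664.Eight.Base

/-!
# At least eight character degrees from certificates (helper471, for S4899)

* `Tab.must` : an LP certificate shows that some nonprincipal irreducible character has its degree in the list `Q`.
* `eight_of_pack` : known degrees `K`, and lists `Qs` of degrees with weights, each containing a degree, such that no
  degree has large weight: there are at least eight degrees.
-/

set_option autoImplicit false
set_option linter.unusedSectionVars false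

open Cfsg

namespace Cfsg.Agent.H471.Eight

open Cfsg.Agent.Characters.Core Cfsg.Agent.H653.Sieve Cfsg.Agent.H653.Graph Cfsg.Agent.H653.Sys
open Cfsg.Agent.H664.Eight

universe u

def memL (d : ℕ) : List ℕ → Bool
  | [] => false
  | a :: l => bif Nat.beq d a then true else memL d l

theorem mem_of_memL {d : ℕ} : ∀ {l : List ℕ}, memL d l = true → d ∈ l
  | [], h => by simp [memL] at h
  | a :: l, h => by
    rw [memL] at h
    cases hb : Nat.beq d a
    · rw [hb, cond_false] at h
      exact List.mem_cons_of_mem _ (mem_of_memL h)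
    · rw [Nat.eq_of_beq_eq_true hb]
      exact List.mem_cons_self

theorem memL_of_mem {d : ℕ} : ∀ {l : List ℕ}, d ∈ l → memL d l = true
  | [], h => by simp at h
  | a :: l, h => by
    rw [memL]
    cases hb : Nat.beq d a
    · rw [cond_false]
      rcases List.mem_cons.1 h with rfl | h
      · rw [Nat.beq_refl] at hb
        exact absurd hb (by simp)
      · exact memL_of_mem h
    · rfl

/-- The check of a certificate on the table. -/
def chkQ (N : ℕ) (Fs : List Fam) (Cs : List Cond) (T : List (ℕ × List ℤ)) (Q : List ℕ) (a : ℤ) (cs : List Cf)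
    (ms : List ℤ) : Bool :=
  sgOK Cs ms && certOK N a cs (exOf Cs ms) Fs &&
    T.all fun x => decide (0 ≤ a * x.1 * x.1 + quad x.1 cs x.2 + exSum x.1 (exOf Cs ms)) || memL x.1 Q

variable {S : Type u} [Group S] [Fintype (IrrCharacter S)] {lab : S → ℕ} {N : ℕ} {L : List (ℕ × ℕ)}
    {Fs : List Fam} {Cs : List Cond} {T : List (ℕ × List ℤ)}

/-- **A certificate proves that some degree is in `Q`.** -/
theorem Tab.must [Finite S] (C : Tab S lab N L Fs Cs T) (Q : List ℕ) (a : ℤ) (cs : List Cf) (ms : List ℤ)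
    (h : chkQ N Fs Cs T Q a cs ms = true) : ∃ d ∈ Q, d ∈ charDegrees S := by
  rw [chkQ, Bool.and_eq_true, Bool.and_eq_true] at h
  obtain ⟨⟨h1, h2⟩, h3⟩ := h
  obtain ⟨Ws, hs, hT⟩ := C.sys
  obtain ⟨χ, -, hχ⟩ := exists_of_pos C.conj C.lone N C.card hs (exOf Cs ms) (exOf_holds C.cond h1) a cs
    (fun d => memL d Q) h2 (by
      intro χ hχ hQ
      rw [List.all_eq_true] at h3
      have h4 := h3 _ (hT χ hχ)
      rw [Bool.or_eq_true, decide_eq_true_eq] at h4
      rcases h4 with h4 | h4
      · exact h4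
      · exact absurd (h4.symm.trans hQ) (by simp))
  exact ⟨deg χ, mem_of_memL hχ, χ, rfl⟩

/-- the weight of a degree -/
def wt (d : ℕ) : List (ℕ × List ℕ) → ℕ
  | [] => 0
  | q :: qs => (bif memL d q.2 then q.1 else 0) + wt d qs

def tw : List (ℕ × List ℕ) → ℕ
  | [] => 0
  | q :: qs => q.1 + tw qs

/-- the check of the packing; `M` is the maximal weight of a degree -/
def chkP (K : List ℕ) (Qs : List (ℕ × List ℕ)) (M : ℕ) : Bool :=
  decide K.Nodup && !memL 1 K && Nat.blt (M * (6 - K.length)) (tw Qs) && Nat.ble K.length 6 &&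
    Qs.all fun q => q.2.all fun d => Nat.ble (wt d Qs) M && !memL d (1 :: K)

theorem sum_wt (D : Finset ℕ) : ∀ {Qs : List (ℕ × List ℕ)}, (∀ q ∈ Qs, ∃ d ∈ q.2, d ∈ D) →
    tw Qs ≤ ∑ d ∈ D, wt d Qs
  | [], _ => by simp [tw]
  | q :: Qs, h => by
    have h1 := sum_wt D (Qs := Qs) fun q hq => h q (List.mem_cons_of_mem _ hq)
    obtain ⟨d, hd, hdD⟩ := h q List.mem_cons_self
    have h2 : q.1 ≤ ∑ d ∈ D, (bif memL d q.2 then q.1 else 0) := by
      have h3 := Finset.single_le_sum (f := fun d => (bif memL d q.2 then q.1 else 0)) (fun _ _ => Nat.zero_le _) hdD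
      simp only [memL_of_mem hd, cond_true] at h3
      exact h3
    simp only [wt, tw, Finset.sum_add_distrib]
    omega

theorem wt_eq_zero {d : ℕ} : ∀ {Qs : List (ℕ × List ℕ)}, (∀ q ∈ Qs, d ∉ q.2) → wt d Qs = 0
  | [], _ => rfl
  | q :: Qs, h => by
    have h1 := wt_eq_zero (Qs := Qs) fun q hq => h q (List.mem_cons_of_mem _ hq)
    have h2 : memL d q.2 = false := by
      rw [Bool.eq_false_iff]
      exact fun h3 => h q List.mem_cons_self (mem_of_memL h3)
    rw [wt, h1, h2]
    rfl

/-- **Eight degrees.** -/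
theorem eight_of_pack [Finite S] (K : List ℕ) (hK : ∀ d ∈ K, d ∈ charDegrees S) (Qs : List (ℕ × List ℕ))
    (hQ : ∀ q ∈ Qs, ∃ d ∈ q.2, d ∈ charDegrees S) (M : ℕ) (h : chkP K Qs M = true) : Eight S := by
  classical
  simp only [chkP, Bool.and_eq_true, decide_eq_true_eq, Bool.not_eq_true', Nat.blt_eq, Nat.ble_eq,
    List.all_eq_true] at h
  obtain ⟨⟨⟨⟨hnd, h1K⟩, hlt⟩, hK6⟩, hw⟩ := h
  have hfin : (charDegrees S).Finite := finite_charDegrees
  set A := hfin.toFinset with hA
  have hAc : (charDegrees S).ncard = A.card := Set.ncard_eq_toFinset_card _ hfin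
  set B := A \ (1 :: K).toFinset with hB
  have hmem : ∀ d, d ∈ A ↔ d ∈ charDegrees S := fun d => by rw [hA, Set.Finite.mem_toFinset]
  have hsub : (1 :: K).toFinset ⊆ A := by
    intro d hd
    rw [List.mem_toFinset] at hd
    rw [hmem]
    rcases List.mem_cons.1 hd with rfl | hd
    · exact one_mem
    · exact hK d hd
  have hcard : (1 :: K).toFinset.card = K.length + 1 := by
    rw [List.toFinset_card_of_nodup, List.length_cons]
    refine List.nodup_cons.2 ⟨fun h1 => ?_, hnd⟩
    rw [memL_of_mem h1] at h1K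
    exact Bool.false_ne_true h1K.symm
  have hBc : A.card = B.card + (K.length + 1) := by
    have h1 := Finset.card_sdiff_add_card_eq_card hsub
    rw [hcard] at h1
    rw [hB]
    exact h1.symm
  have hBQ : ∀ q ∈ Qs, ∃ d ∈ q.2, d ∈ B := by
    intro q hq
    obtain ⟨d, hd, hdS⟩ := hQ q hq
    refine ⟨d, hd, ?_⟩
    rw [hB, Finset.mem_sdiff, hmem, List.mem_toFinset]
    refine ⟨hdS, fun h1 => ?_⟩
    have h2 := (hw q hq d hd).2
    rw [memL_of_mem h1] at h2
    exact Bool.false_ne_true h2.symm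
  have h1 := sum_wt B hBQ
  have h2 : ∑ d ∈ B, wt d Qs ≤ ∑ d ∈ B, M := by
    refine Finset.sum_le_sum fun d _ => ?_
    by_cases hd : ∃ q ∈ Qs, d ∈ q.2
    · obtain ⟨q, hq, hdq⟩ := hd
      exact (hw q hq d hdq).1
    · push Not at hd
      rw [wt_eq_zero hd]
      exact Nat.zero_le _
  rw [Finset.sum_const, smul_eq_mul] at h2
  have h3 : M * (6 - K.length) < B.card * M := lt_of_lt_of_le hlt (h1.trans h2)
  have h4 : 6 - K.length < B.card := by
    rw [mul_comm B.card M] at h3
    exact lt_of_mul_lt_mul_left h3 (Nat.zero_le _)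
  unfold Eight
  rw [hAc, hBc]
  omega

end Cfsg.Agent.H471.Eight
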