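import Cfsg.Agent.H289.Eight.Cyc
import Cfsg.Agent.H678.DG.FiDeg

/-!
# `Fi23` has at least eight character degrees (helper471, for S4899)

`p = 23`: the degrees 782, 106743 and a multiple of 115 are divisible by 23; 30888 is a nonexceptional degree; there are
two more nonexceptional degrees, and the exceptional one.
-/

set_option autoImplicit false
set_option maxRecDepth 100000

namespace Cfsg.Agent.H471.Eight.RowFi23

open Cfsg Subgroup Cfsg.Agent.Characters.Core Cfsg.Agent.H664.Eight Cfsg.Agent.H289.Eight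
open Cfsg.Agent.Lib.PermNet Cfsg.Agent.Fischer.Fi23Hom Cfsg.Agent.LThreeFi23
open Cfsg.Agent.H839.Fi23 Cfsg.Agent.H678.DG.FiBlk
open Cfsg.Spor (Fi23)

universe u

theorem chk_fi23 : Cyc.chk 4089470473293004800 23 11
    [(23, 1), (17, 1), (13, 1), (11, 1), (7, 1), (5, 2), (3, 13), (2, 18)] (-30888) = true := by decide +kernel

theorem eight_fi23' : Eight Fi23 := by
  have h0 : Spor.IsoFi23 Fi23 := ⟨MulEquiv.refl _⟩
  have hs : IsSimpleGroup Fi23 := S1697.result.1
  have hfin : Finite Fi23 := Nat.finite_of_card_ne_zero (by rw [cardG]; norm_num)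
  have hy : orderOf (elw y23) = 23 := orderOf_eq_prime pow23 y23_ne
  have hc : Nat.card (centralizer ({elw y23} : Set Fi23)) = 23 := by
    rw [H870.IMLocal.centralizer_zpowers, self_cent23, card_y23]
  obtain ⟨χ₁, h1⟩ := (H672.SporIM.fi23 h0).1
  obtain ⟨χ₂, h2⟩ := (H672.SporIM.fi23 h0).2
  obtain ⟨χ₃, h3⟩ := H678.DG.FiPts.im_fi23 h0
  obtain ⟨χ₄, h4⟩ := im_115
  have hmem : ∀ {n : ℕ} {χ : IrrCharacter Fi23}, charDegree (χ : Fi23 → ℂ) = n → n ∈ charDegrees Fi23 :=
    fun {n χ} h => ⟨χ, h⟩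
  have : Fact (Nat.Prime 23) := ⟨by norm_num⟩
  refine Cyc.eight_of_elt (p := 23) (by norm_num) hy hc (e := 11) (t := 2) (by norm_num)
    cardG (by norm_num) (by norm_num) (by norm_num) (by norm_num)
    (L := [(23, 1), (17, 1), (13, 1), (11, 1), (7, 1), (5, 2), (3, 13), (2, 18)]) (by
      intro pa hpa
      fin_cases hpa <;> norm_num) (by decide +kernel) (by norm_num) (by norm_num) (d0 := -30888)
    (by rw [show (-30888 : ℤ).natAbs = 30888 by norm_num]; first | exact hmem h1 | exact hmem h2)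
    (by decide) (by decide) chk_fi23 [782, 106743, charDegree (χ₄ : Fi23 → ℂ)] ?_ ?_ (by simp)
  · intro k hk
    simp only [List.mem_cons, List.not_mem_nil, or_false] at hk
    rcases hk with rfl | rfl | rfl
    · exact ⟨by first | exact hmem h1 | exact hmem h2, by norm_num⟩
    · exact ⟨hmem h3, by norm_num⟩
    · exact ⟨⟨χ₄, rfl⟩, (by norm_num : 23 ∣ 115).trans h4⟩
  · have h5 : 5 ∣ charDegree (χ₄ : Fi23 → ℂ) := (by norm_num : 5 ∣ 115).trans h4
    simp only [List.nodup_cons, List.mem_cons, List.not_mem_nil, or_false, not_or, not_false_eq_true, List.nodup_nil,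
      and_true]
    refine ⟨⟨by norm_num, fun h => ?_⟩, fun h => ?_⟩
    · rw [← h] at h5; norm_num at h5
    · rw [← h] at h5; norm_num at h5

/-- **`Fi23`.** -/
theorem eight_fi23 {S : Type u} [Group S] (h : Spor.IsoFi23 S) : Eight S := by
  obtain ⟨e⟩ := h
  exact eight_fi23'.of_equiv e

end Cfsg.Agent.H471.Eight.RowFi23
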