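import Cfsg.Agent.H471.Eight.CertFi24
import Cfsg.Agent.H30.GraphFi24A
import Cfsg.Agent.H968.Tor.FiFour

/-!
# `Fi24'` has at least eight character degrees (helper471, for S4899)
-/

set_option autoImplicit false

namespace Cfsg.Agent.H471.Eight.RowFi24

open Cfsg Subgroup Cfsg.Agent.Characters.Core Cfsg.Agent.H664.Eight

universe u

theorem cent {p : ℕ} (hp : p.Prime) (hm : 306936 % p ≠ 0) (hd : p ∣ 1255205709190661721292800)
    (hD : ∀ R : Subgroup Spor.Fi24, Nat.card R = p → Nat.card (centralizer (R : Set Spor.Fi24)) ∣ 2 * p) :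
    ∃ x : Spor.Fi24', orderOf x = p ∧ Nat.card (Subgroup.centralizer ({x} : Set Spor.Fi24')) = p * 1 := by
  have hfin : Finite Spor.Fi24' := H30.GraphFi24.finite_Fi24'
  have := Fact.mk hp
  obtain ⟨x, hx⟩ := exists_prime_orderOf_dvd_card' (G := Spor.Fi24') p (by rw [H30.GraphFi24.card_F]; exact hd)
  exact ⟨x, hx, by rw [mul_one]; exact H968.Tor.card_cent24 hp hm hD hx⟩

theorem eight_fi24' : Eight Spor.Fi24' := by
  have hfin : Finite Spor.Fi24' := H30.GraphFi24.finite_Fi24'
  have hs : IsSimpleGroup Spor.Fi24' := R08.FiTwentyFour.isFi24'.1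
  refine CertFi24.eight H30.GraphFi24.card_F ?_ ?_
  · intro pk hpk
    simp only [List.mem_cons, List.not_mem_nil, or_false] at hpk
    rcases hpk with rfl | rfl | rfl
    · obtain ⟨x, t, hx, hC, -⟩ := H30.IMFi24.exists_x
      exact ⟨x, hx, hC⟩
    · exact cent (by norm_num) (by norm_num) (by norm_num) fun R hR => (H256.Sep.FiData.data23 hR).1
    · exact cent (by norm_num) (by norm_num) (by norm_num) fun R hR => (H256.Sep.FiData.data17 hR).1
  · intro d hd
    simp only [List.mem_cons, List.not_mem_nil, or_false] at hd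
    rcases hd with rfl | rfl
    · obtain ⟨χ, h⟩ := H30.GraphFi24.exists_deg.1
      exact ⟨χ, h⟩
    · obtain ⟨χ, h⟩ := H30.GraphFi24.exists_deg.2
      exact ⟨χ, h⟩

/-- **`Fi24'`.** -/
theorem eight_fi24 {S : Type u} [Group S] (h : Spor.IsoFi24' S) : Eight S := by
  obtain ⟨e⟩ := h
  exact eight_fi24'.of_equiv e

end Cfsg.Agent.H471.Eight.RowFi24
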