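import Cfsg.Agent.H471.Eight.CertLy
import Cfsg.Agent.H655.LySixtySeven
import Cfsg.Agent.H655.LyThirtySeven
import Cfsg.Agent.H314.LyOrb.Deg

/-!
# `Ly` has at least eight character degrees (helper471, for S4899)
-/

set_option autoImplicit false

namespace Cfsg.Agent.H471.Eight.RowLy

open Cfsg Cfsg.Agent.Characters.Core Cfsg.Agent.H664.Eight

universe u

theorem eight_ly' (hK : H995.CopEngine.AllKnown.{0}) : Eight Spor.Ly := by
  have hI : Spor.IsoLy Spor.Ly := ⟨MulEquiv.refl _⟩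
  have hfin : Finite Spor.Ly := Cfsg.Agent.Ly.Setup.finite_ly
  have hsim : IsSimpleGroup Spor.Ly := Cfsg.Agent.Ly.Setup.isSimple_ly
  obtain ⟨χ, -, hχ⟩ := H314.LyOrb.exists_deg_ly
  have ex : ∀ p : ℕ, p.Prime → p ∣ 51765179004000000 → ∃ x : Spor.Ly, orderOf x = p := by
    intro p hp hd
    have := Fact.mk hp
    exact exists_prime_orderOf_dvd_card' (G := Spor.Ly) p (by rw [Cfsg.Agent.Ly.Setup.card_ly]; exact hd)
  refine CertLy.eight Cfsg.Agent.Ly.Setup.card_ly ?_ ?_
  · intro pk hpk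
    simp only [List.mem_cons, List.not_mem_nil, or_false] at hpk
    rcases hpk with rfl | rfl
    · obtain ⟨x, hx⟩ := ex 67 (by norm_num) (by norm_num)
      exact ⟨x, hx, (H655.LySixtySeven.card_centralizer hK hI hx).trans (by norm_num)⟩
    · obtain ⟨x, hx⟩ := ex 37 (by norm_num) (by norm_num)
      exact ⟨x, hx, (H655.LyThirtySeven.card_centralizer37 hK hI hx).trans (by norm_num)⟩
  · intro d hd
    simp only [List.mem_cons, List.not_mem_nil, or_false] at hd
    rcases hd with rfl | rfl | rfl | rfl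
    · exact ⟨χ 1, hχ 1⟩
    · exact ⟨χ 2, hχ 2⟩
    · exact ⟨χ 3, hχ 3⟩
    · exact ⟨χ 4, hχ 4⟩

/-- **`Ly`.** `hK` : the classification, `fun _ _ _ h => S0000.result` (universe 0). -/
theorem eight_ly (hK : H995.CopEngine.AllKnown.{0}) {S : Type u} [Group S] (h : Spor.IsoLy S) : Eight S := by
  obtain ⟨e⟩ := h
  exact (eight_ly' hK).of_equiv e

end Cfsg.Agent.H471.Eight.RowLy
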